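import Mathlib

/-!
The order of an abelian group on which an element of prime order acts irreducibly.
-/

set_option autoImplicit false

namespace Cfsg.Agent.PClosedMin

open Polynomial

theorem aeval_pow_card {q : ℕ} [Fact q.Prime] {R : Type*} [Semiring R] [Algebra (ZMod q) R] (s : R) (f : (ZMod q)[X]) :
    ∀ e : ℕ, aeval s f ^ q ^ e = aeval (s ^ q ^ e) f
  | 0 => by simp
  | e + 1 => by
    rw [pow_succ q, pow_mul, aeval_pow_card s f e, ← map_pow, ← ZMod.expand_card, expand_aeval, pow_mul]

theorem card_le_of_pow_eq {R : Type*} [CommRing R] [IsDomain R] [Finite R] {n : ℕ} (hn : 1 < n)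
    (h : ∀ c : R, c ^ n = c) : Nat.card R ≤ n := by
  classical
  haveI := Fintype.ofFinite R
  rw [Nat.card_eq_fintype_card]
  set P : R[X] := X ^ n - X
  have hP : P.natDegree = n := by
    rw [natDegree_sub_eq_left_of_natDegree_lt (by simp [hn]), natDegree_X_pow]
  have hP0 : P ≠ 0 := fun h0 => by
    rw [h0, natDegree_zero] at hP
    omega
  calc Fintype.card R ≤ P.roots.toFinset.card := by
        rw [← Finset.card_univ]
        refine Finset.card_le_card fun c _ => ?_
        rw [Multiset.mem_toFinset, mem_roots hP0, IsRoot.def]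
        simp [P, h c]
    _ ≤ Multiset.card P.roots := Multiset.toFinset_card_le _
    _ ≤ n := hP ▸ card_roots' P

theorem card_le_of_irreducible {q : ℕ} [Fact q.Prime] {W : Type*} [AddCommGroup W] [Module (ZMod q) W] [Finite W]
    (s : Module.End (ZMod q) W) {n : ℕ} (hn : 1 < n) (e : ℕ) (hne : n = q ^ e) (hs : s ^ n = s)
    (hirr : ∀ U : Submodule (ZMod q) W, (∀ u ∈ U, s u ∈ U) → U = ⊥ ∨ U = ⊤) : Nat.card W ≤ n := by
  classical
  rcases subsingleton_or_nontrivial W with hW | hW
  · exact (Finite.card_le_one_iff_subsingleton.mpr hW).trans hn.le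
  obtain ⟨v, hv⟩ := exists_ne (0 : W)
  set φ : (ZMod q)[X] →ₐ[ZMod q] Module.End (ZMod q) W := aeval s
  have hcomm : ∀ (f : (ZMod q)[X]) (w : W), φ f (s w) = s (φ f w) := by
    intro f w
    rw [← Module.End.mul_apply, ← Module.End.mul_apply, show s = φ X from (aeval_X s).symm, ← map_mul, ← map_mul,
      mul_comm f X]
  -- evaluation at `v` is onto
  have hsurj : ∀ w, ∃ f, φ f v = w := by
    let U : Submodule (ZMod q) W := LinearMap.range ((LinearMap.applyₗ v).comp φ.toLinearMap)
    have hU : ∀ u ∈ U, s u ∈ U := by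
      rintro _ ⟨f, rfl⟩
      refine ⟨X * f, ?_⟩
      show φ (X * f) v = s (φ f v)
      rw [map_mul, Module.End.mul_apply]
      simp [φ]
    rcases hirr U hU with h | h
    · refine absurd ?_ hv
      have : v ∈ U := ⟨1, by simp⟩
      rwa [h, Submodule.mem_bot] at this
    · intro w
      exact h.ge (Submodule.mem_top (x := w))
  -- a nonzero polynomial expression kills nothing
  have hinj : ∀ f, ∀ w : W, w ≠ 0 → φ f w = 0 → φ f = 0 := by
    intro f w hw hfw
    rcases hirr (LinearMap.ker (φ f)) (fun u hu => by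
      rw [LinearMap.mem_ker, hcomm, LinearMap.mem_ker.mp hu, map_zero]) with h | h
    · refine absurd ?_ hw
      rw [← Submodule.mem_bot (ZMod q), ← h]
      exact LinearMap.mem_ker.mpr hfw
    · exact LinearMap.ker_eq_top.mp h
  set I : Ideal (ZMod q)[X] := RingHom.ker φ.toRingHom
  have hmem : ∀ f, f ∈ I ↔ φ f = 0 := fun f => RingHom.mem_ker
  haveI : I.IsPrime := by
    refine ⟨fun h => hv ?_, fun {a b} hab => ?_⟩
    · have := (hmem 1).mp (h ▸ Submodule.mem_top)
      rw [map_one] at this
      simpa using LinearMap.congr_fun this v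
    · rw [hmem, map_mul] at hab
      by_cases hb : φ b v = 0
      · exact Or.inr ((hmem b).mpr (hinj b v hv hb))
      · exact Or.inl ((hmem a).mpr (hinj a _ hb (LinearMap.congr_fun hab v)))
  haveI : IsDomain ((ZMod q)[X] ⧸ I) := Ideal.Quotient.isDomain I
  let ev : ((ZMod q)[X] ⧸ I) → W := fun c => φ (Quotient.out c) v
  have hev : ∀ f, ev (Ideal.Quotient.mk I f) = φ f v := by
    intro f
    have h1 : φ (Quotient.out (Ideal.Quotient.mk I f)) = φ f := by
      rw [← sub_eq_zero, ← map_sub, ← hmem, ← Ideal.Quotient.eq, Ideal.Quotient.mk_out]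
    simp only [ev, h1]
  have hbij : Function.Bijective ev := by
    refine ⟨fun c d h => ?_, fun w => ?_⟩
    · obtain ⟨f, rfl⟩ := Ideal.Quotient.mk_surjective c
      obtain ⟨g, rfl⟩ := Ideal.Quotient.mk_surjective d
      rw [hev, hev] at h
      rw [Ideal.Quotient.eq, hmem]
      exact hinj _ v hv (by rw [map_sub, LinearMap.sub_apply, h, sub_self])
    · obtain ⟨f, hf⟩ := hsurj w
      exact ⟨_, (hev f).trans hf⟩
  haveI : Finite ((ZMod q)[X] ⧸ I) := Finite.of_injective ev hbij.1
  haveI := Fintype.ofFinite ((ZMod q)[X] ⧸ I)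
  have hroot : ∀ c : (ZMod q)[X] ⧸ I, c ^ n = c := by
    intro c
    obtain ⟨f, rfl⟩ := Ideal.Quotient.mk_surjective c
    rw [← map_pow, Ideal.Quotient.eq, hmem, map_sub, map_pow, sub_eq_zero, hne]
    show aeval s f ^ q ^ e = aeval s f
    rw [aeval_pow_card, ← hne, hs]
  exact (Nat.card_congr (Equiv.ofBijective ev hbij)).symm.trans_le (card_le_of_pow_eq hn hroot)

/-- An element of prime order acting irreducibly and nontrivially fixes the order of the group. -/
theorem card_eq_pow_orderOf {A : Type*} [CommGroup A] [Finite A] [Nontrivial A] {p q : ℕ} [Fact p.Prime]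
    [Fact q.Prime] (hpq : q ≠ p) (hexp : ∀ a : A, a ^ q = 1) (σ : MulAut A) (hσ : σ ^ p = 1) (hσ1 : σ ≠ 1)
    (hirr : ∀ B : Subgroup A, (∀ b ∈ B, σ b ∈ B) → B = ⊥ ∨ B = ⊤) :
    Nat.card A = q ^ orderOf (q : ZMod p) := by
  obtain ⟨hmod⟩ : Nonempty (Module (ZMod q) (Additive A)) := ⟨AddCommGroup.zmodModule fun a =>
    Additive.toMul.injective (hexp (Additive.toMul a))⟩
  letI := hmod
  set e := orderOf (q : ZMod p) with he
  obtain ⟨m, hm⟩ : ∃ m, Nat.card A = q ^ m := IsPGroup.iff_card.mp fun a => ⟨1, by rw [pow_one]; exact hexp a⟩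
  have hm0 : m ≠ 0 := by
    rintro rfl
    exact Finite.one_lt_card.ne' (hm.trans (pow_zero q))
  have hq0 : (q : ZMod p) ≠ 0 := fun h => hpq
    (((Nat.prime_dvd_prime_iff_eq Fact.out Fact.out).mp ((CharP.cast_eq_zero_iff (ZMod p) p q).mp h)).symm)
  -- lower bound: the fixed point count
  have hfix : ∀ a, σ a = a → a = 1 := by
    intro a ha
    let F : Subgroup A := MonoidHom.eqLocus σ.toMonoidHom (MonoidHom.id A)
    rcases hirr F (fun b hb => congrArg σ (hb : σ b = b)) with h | h
    · exact Subgroup.mem_bot.mp (h ▸ (show a ∈ F from ha))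
    · refine absurd (MulEquiv.ext fun b => ?_) hσ1
      have h1 : b ∈ F := h.ge (Subgroup.mem_top b)
      exact h1
  have hPG : IsPGroup p (Subgroup.zpowers σ) := IsPGroup.of_card (n := 1)
    (by rw [Nat.card_zpowers, orderOf_eq_prime hσ hσ1, pow_one])
  have hmodp := hPG.card_modEq_card_fixedPoints A
  have hfp : Nat.card (MulAction.fixedPoints (Subgroup.zpowers σ) A) = 1 := by
    rw [Nat.card_eq_one_iff_exists]
    refine ⟨⟨1, fun g => map_one (g : MulAut A)⟩, fun a => Subtype.ext (hfix _ ?_)⟩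
    exact a.2 ⟨σ, Subgroup.mem_zpowers σ⟩
  rw [hm, hfp] at hmodp
  have hdvd : e ∣ m := orderOf_dvd_of_pow_eq_one (by
    have := (ZMod.natCast_eq_natCast_iff _ _ _).mpr hmodp
    simpa using this)
  -- upper bound: the field of the irreducible action
  have hqe : (q ^ e) % p = 1 := by
    have h1 : ((q ^ e : ℕ) : ZMod p) = ((1 : ℕ) : ZMod p) := by
      rw [Nat.cast_pow, Nat.cast_one]; exact pow_orderOf_eq_one _
    rw [ZMod.natCast_eq_natCast_iff'] at h1
    rwa [Nat.one_mod_eq_one.mpr (Fact.out : p.Prime).ne_one] at h1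
  have he0 : 0 < e := orderOf_pos_iff.mpr (isOfFinOrder_iff_pow_eq_one.mpr
    ⟨p - 1, Nat.sub_pos_of_lt (Fact.out : p.Prime).one_lt, ZMod.pow_card_sub_one_eq_one hq0⟩)
  let ψ : Additive A →+ Additive A := MonoidHom.toAdditive σ.toMonoidHom
  let s : Module.End (ZMod q) (Additive A) := ψ.toZModLinearMap q
  have hpow : ∀ (k : ℕ) (a : Additive A), Additive.toMul ((s ^ k) a) = (σ ^ k) (Additive.toMul a) := by
    intro k
    induction k with
    | zero => intro a; rfl
    | succ k ih => intro a; rw [pow_succ, pow_succ, Module.End.mul_apply, MulAut.mul_apply, ih]; rfl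
  have hle : Nat.card (Additive A) ≤ q ^ e := by
    refine card_le_of_irreducible s (Nat.one_lt_pow he0.ne' (Fact.out : q.Prime).one_lt) e rfl ?_ ?_
    · refine LinearMap.ext fun a => Additive.toMul.injective ?_
      rw [hpow, ← Nat.mod_add_div (q ^ e) p, hqe, pow_add, pow_one, pow_mul, hσ, one_pow, mul_one]
      rfl
    · intro U hU
      let B : Subgroup A :=
        { carrier := {a | Additive.ofMul a ∈ U}
          one_mem' := U.zero_mem
          mul_mem' := fun ha hb => U.add_mem ha hb
          inv_mem' := fun ha => U.neg_mem ha }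
      rcases hirr B (fun b hb => hU _ hb) with h | h
      · refine Or.inl ((Submodule.eq_bot_iff _).mpr fun u hu => ?_)
        have : Additive.toMul u ∈ B := hu
        rw [h, Subgroup.mem_bot] at this
        exact this
      · exact Or.inr (eq_top_iff.mpr fun u _ => h.ge (Subgroup.mem_top (Additive.toMul u)))
  rw [hm]
  congr 1
  refine le_antisymm ((Nat.pow_le_pow_iff_right (Fact.out : q.Prime).one_lt).mp ?_)
    (Nat.le_of_dvd (Nat.pos_of_ne_zero hm0) hdvd)
  rw [← hm]
  exact (Nat.card_congr Additive.ofMul).trans_le hle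

end Cfsg.Agent.PClosedMin
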