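import Mathlib
import Cfsg.Prelude.Def_LocalStructure
import Cfsg.Prelude.Def_Transfer
import Cfsg.Agent.Core.MinimalNormal
import Cfsg.Agent.Coprime.Basic
import Cfsg.Agent.PClosedMin.Irreducible

/-!
Minimal non-`p`-closed groups which are not simple.
-/

set_option autoImplicit false

namespace Cfsg.Agent.PClosedMin

open Subgroup

variable {G : Type*} [Group G] [Finite G] {p : ℕ} [Fact p.Prime]

theorem isPClosed_of_not_dvd (h : ¬ p ∣ Nat.card G) : Cfsg.IsPClosed p G := fun P => by
  have : (P : Subgroup G) = ⊥ := by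
    refine card_eq_one.mp ?_
    rw [P.card_eq_multiplicity, Nat.factorization_eq_zero_of_not_dvd h, pow_zero]
  rw [this]; infer_instance

theorem isPClosed_of_isPGroup (h : IsPGroup p G) : Cfsg.IsPClosed p G := fun P => by
  have : (P : Subgroup G) = ⊤ := (P.is_maximal' (h.to_subgroup ⊤) le_top).symm
  rw [this]; infer_instance

theorem isPClosed_of_quotient {M : Subgroup G} [M.Normal] (hM : IsPGroup p M)
    (h : Cfsg.IsPClosed p (G ⧸ M)) : Cfsg.IsPClosed p G := fun P => by
  have hMP : M ≤ (P : Subgroup G) := hM.le_sylow_of_normal P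
  have h1 := h (P.mapSurjective (QuotientGroup.mk'_surjective M))
  rw [Sylow.coe_mapSurjective] at h1
  have h2 := h1.comap (QuotientGroup.mk' M)
  rwa [QuotientGroup.comap_map_mk', sup_eq_right.mpr hMP] at h2

theorem sylow_normal_of_normal_subgroup {H : Subgroup G} [H.Normal] (hH : Cfsg.IsPClosed p H) (P : Sylow p G)
    (hPH : (P : Subgroup G) ≤ H) : (P : Subgroup G).Normal := by
  have h1 := hH (P.subtype hPH)
  haveI : ((P.subtype hPH : Sylow p H) : Subgroup H).Characteristic := Sylow.characteristic_of_normal _ h1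
  have h2 := ConjAct.normal_of_characteristic_of_normal (K := ((P.subtype hPH : Sylow p H) : Subgroup H))
  rwa [Sylow.coe_subtype, map_subgroupOf_eq_of_le hPH] at h2

/-- Order and closure properties of the split extension with irreducible action. -/
theorem irreducible_extension {q : ℕ} (hq : q.Prime) (hpq : q ≠ p) (hna : ¬ IsMulCommutative G)
    (A : Subgroup G) [A.Normal] (hA : Cfsg.IsElementaryAbelian q A) (hidx : A.index = p)
    (hmin : ∀ B : Subgroup G, B.Normal → B ≤ A → B = ⊥ ∨ B = A) :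
    Nat.card A = q ^ orderOf (q : ZMod p) ∧ ¬ Cfsg.IsPClosed p G ∧
      (∀ H : Subgroup G, H ≠ ⊤ → Cfsg.IsPClosed p H) ∧
      ∀ (N : Subgroup G) [N.Normal], N ≠ ⊥ → Cfsg.IsPClosed p (G ⧸ N) := by
  classical
  haveI := Fact.mk hq
  have hp : p.Prime := Fact.out
  have hAq : IsPGroup q A := fun a => ⟨1, Subtype.ext (by rw [pow_one]; simpa using hA.2 _ a.2)⟩
  obtain ⟨m, hm⟩ := IsPGroup.iff_card.mp hAq
  have hpA : ¬ p ∣ Nat.card A := fun h => hpq ((Nat.prime_dvd_prime_iff_eq hp hq).mp (hp.dvd_of_dvd_pow (hm ▸ h))).symm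
  have hcardG : Nat.card G = Nat.card A * p := by rw [← hidx, card_mul_index]
  have hcomm : ∀ a ∈ A, ∀ b ∈ A, Commute a b := fun a ha b hb =>
    congrArg Subtype.val (hA.1.is_comm.comm ⟨a, ha⟩ ⟨b, hb⟩)
  obtain ⟨x, hx⟩ := exists_prime_orderOf_dvd_card' (G := G) p (hcardG ▸ dvd_mul_left p _)
  have hxA : x ∉ A := fun h => hpA (hx ▸ A.orderOf_dvd_natCard h)
  have hcoatom : ∀ H : Subgroup G, A ≤ H → H = A ∨ H = ⊤ := by
    intro H hAH
    have h1 := relIndex_mul_index hAH
    rw [hidx] at h1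
    rcases (Nat.dvd_prime hp).mp (Dvd.intro_left _ h1) with h | h
    · exact Or.inr (index_eq_one.mp h)
    · rw [h] at h1
      have h2 : A.relIndex H = 1 := Nat.eq_of_mul_eq_mul_right hp.pos (by rw [h1, one_mul])
      exact Or.inl (le_antisymm (relIndex_eq_one.mp h2) hAH)
  have htop : ∀ H : Subgroup G, A ≤ H → ∀ y ∈ H, y ∉ A → H = ⊤ := fun H hAH y hy hyA =>
    (hcoatom H hAH).resolve_left fun e => hyA (e ▸ hy)
  have hnorm : ∀ B : Subgroup G, B ≤ A → ∀ y, y ∉ A → y ∈ normalizer (B : Set G) → B.Normal := by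
    intro B hB y hy hyB
    rw [← normalizer_eq_top_iff]
    refine htop _ (fun a ha => mem_normalizer_iff.mpr fun b => ⟨fun hb => ?_, fun hb => ?_⟩) y hyB hy
    · rwa [(hcomm a ha b (hB hb)).eq, mul_inv_cancel_right]
    · have hbA : b ∈ A := by
        have := A.mul_mem (A.mul_mem (A.inv_mem ha) (hB hb)) ha
        simpa [mul_assoc] using this
      rwa [(hcomm a ha b hbA).eq, mul_inv_cancel_right] at hb
  have hnc : ¬ ∀ a ∈ A, Commute x a := by
    intro h
    refine hna ⟨⟨fun y z => ?_⟩⟩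
    have hcA : ∀ a ∈ A, ∀ y : G, Commute a y := by
      intro a ha y
      have h1 : centralizer {a} = ⊤ := htop _ (fun b hb => mem_centralizer_singleton_iff.mpr (hcomm b hb a ha).eq) x
        (mem_centralizer_singleton_iff.mpr (h a ha).eq) hxA
      exact (mem_centralizer_singleton_iff.mp (h1.ge (mem_top y))).symm
    have hxc : ∀ y : G, Commute x y := by
      intro y
      have h1 : centralizer {x} = ⊤ := htop _ (fun b hb => mem_centralizer_singleton_iff.mpr (h b hb).symm.eq) x
        (mem_centralizer_singleton_iff.mpr rfl) hxA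
      exact (mem_centralizer_singleton_iff.mp (h1.ge (mem_top y))).symm
    have h1 : centralizer {y} = ⊤ := htop _ (fun b hb => mem_centralizer_singleton_iff.mpr (hcA b hb y).eq) x
      (mem_centralizer_singleton_iff.mpr (hxc y).eq) hxA
    exact (mem_centralizer_singleton_iff.mp (h1.ge (mem_top z))).symm
  refine ⟨?_, ?_, ?_, ?_⟩
  · -- the order
    haveI : Nontrivial A := by
      rw [Subgroup.nontrivial_iff_ne_bot]
      exact fun h => hnc fun a ha => by rw [h, mem_bot] at ha; rw [ha]; exact Commute.one_right x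
    letI : CommGroup A := { (inferInstance : Group A) with mul_comm := fun a b => hA.1.is_comm.comm a b }
    refine card_eq_pow_orderOf hpq (fun a => Subtype.ext (hA.2 _ a.2)) (MulAut.conjNormal x) ?_ ?_ ?_
    · rw [← map_pow, ← hx, pow_orderOf_eq_one, map_one]
    · exact fun h => hnc fun a ha => by
        have := congrArg Subtype.val (DFunLike.congr_fun h ⟨a, ha⟩)
        rw [MulAut.conjNormal_apply] at this
        exact mul_inv_eq_iff_eq_mul.mp this
    · intro B hB
      have hBn : x ∈ normalizer ((B.map A.subtype : Subgroup G) : Set G) := by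
        refine mem_normalizer_iff.mpr fun b => ?_
        have hfwd : ∀ b, b ∈ B.map A.subtype → x * b * x⁻¹ ∈ B.map A.subtype := by
          rintro _ ⟨c, hc, rfl⟩
          exact ⟨_, hB c hc, MulAut.conjNormal_apply x c⟩
        refine ⟨hfwd b, fun hb => ?_⟩
        have hk : ∀ k : ℕ, x ^ k * (x * b * x⁻¹) * (x ^ k)⁻¹ ∈ B.map A.subtype := by
          intro k
          induction k with
          | zero => simpa using hb
          | succ k ih =>
            rw [pow_succ', show x * x ^ k * (x * b * x⁻¹) * (x * x ^ k)⁻¹ = x * (x ^ k * (x * b * x⁻¹) * (x ^ k)⁻¹) * x⁻¹ by group]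
            exact hfwd _ ih
        have h1 := hk (p - 1)
        rw [show x ^ (p - 1) * (x * b * x⁻¹) * (x ^ (p - 1))⁻¹ = (x ^ (p - 1) * x) * b * (x ^ (p - 1) * x)⁻¹ by group,
          ← pow_succ, Nat.sub_add_cancel hp.pos, ← hx, pow_orderOf_eq_one] at h1
        simpa using h1
      rcases hmin _ (hnorm _ (map_subtype_le _) x hxA hBn) (map_subtype_le _) with h | h
      · exact Or.inl ((map_eq_bot_iff_of_injective _ A.subtype_injective).mp h)
      · refine Or.inr (map_injective A.subtype_injective ?_)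
        rw [h, ← MonoidHom.range_eq_map, range_subtype]
  · intro hcl
    obtain ⟨P, hP⟩ := (IsPGroup.of_card (n := 1) (by rw [Nat.card_zpowers, hx, pow_one]) : IsPGroup p (zpowers x)).exists_le_sylow
    haveI := hcl P
    have hd : Disjoint A (P : Subgroup G) := by
      refine disjoint_iff.mpr (Coprime.inf_eq_bot_of_coprime ?_)
      rw [P.card_eq_multiplicity, hm]
      exact ((Nat.coprime_primes hq hp).mpr hpq).pow _ _
    exact hnc fun a ha => (commute_of_normal_of_disjoint A P ‹_› ‹_› hd a x ha (hP (mem_zpowers x))).symm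
  · intro H hH
    by_cases hHA : H ≤ A
    · exact isPClosed_of_not_dvd fun h => hpA (h.trans (card_dvd_of_le hHA))
    obtain ⟨y, hy, hyA⟩ := SetLike.not_le_iff_exists.mp hHA
    have hn : (H ⊓ A).Normal := hnorm _ inf_le_right y hyA (mem_normalizer_iff.mpr fun b =>
      ⟨fun hb => ⟨H.mul_mem (H.mul_mem hy hb.1) (H.inv_mem hy), (inferInstance : A.Normal).conj_mem _ hb.2 y⟩,
        fun hb => ⟨by simpa [mul_assoc] using H.mul_mem (H.mul_mem (H.inv_mem hy) hb.1) hy,
          by simpa [mul_assoc] using (inferInstance : A.Normal).conj_mem _ hb.2 y⁻¹⟩⟩)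
    rcases hmin _ hn inf_le_right with h | h
    · refine isPClosed_of_isPGroup ?_
      have h1 : Nat.card H ∣ p := by
        have h2 := relIndex_dvd_index_of_normal (H := A) H
        rwa [hidx, ← inf_relIndex_left, h, relIndex_bot_left] at h2
      rcases (Nat.dvd_prime hp).mp h1 with h3 | h3
      · exact IsPGroup.of_card (n := 0) (by rw [h3, pow_zero])
      · exact IsPGroup.of_card (n := 1) (by rw [h3, pow_one])
    · exact absurd (htop H (h ▸ inf_le_left) y hy hyA) hH
  · intro N hN hN0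
    rcases hmin (N ⊓ A) inferInstance inf_le_right with h | h
    · exfalso
      have hc : ∀ a ∈ A, ∀ n ∈ N, Commute a n := fun a ha n hn =>
        commute_of_normal_of_disjoint A N ‹_› hN (disjoint_iff.mpr (inf_comm N A ▸ h)) a n ha hn
      obtain ⟨n, hn, hn1⟩ := (bot_or_exists_ne_one N).resolve_left hN0
      have hnA : n ∉ A := fun hA' => hn1 (mem_bot.mp (h ▸ (⟨hn, hA'⟩ : n ∈ N ⊓ A)))
      refine hnc fun a ha => ?_
      have h1 : centralizer {a} = ⊤ := htop _ (fun b hb => mem_centralizer_singleton_iff.mpr (hcomm b hb a ha).eq) n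
        (mem_centralizer_singleton_iff.mpr (hc a ha n hn).symm.eq) hnA
      exact mem_centralizer_singleton_iff.mp (h1.ge (mem_top x))
    · have hd : N.index ∣ p := hidx ▸ index_dvd_of_le (h ▸ inf_le_left)
      refine isPClosed_of_isPGroup ?_
      rcases (Nat.dvd_prime hp).mp hd with h3 | h3
      · exact IsPGroup.of_card (n := 0) (by rw [← index_eq_card, h3, pow_zero])
      · exact IsPGroup.of_card (n := 1) (by rw [← index_eq_card, h3, pow_one])

/-- A minimal non-`p`-closed group which is not simple. -/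
theorem structure_of_not_simple (hnc : ¬ Cfsg.IsPClosed p G)
    (hsub : ∀ H : Subgroup G, H ≠ ⊤ → Cfsg.IsPClosed p H)
    (hquo : ∀ (N : Subgroup G) [N.Normal], N ≠ ⊥ → Cfsg.IsPClosed p (G ⧸ N)) (hns : ¬ IsSimpleGroup G) :
    ∃ q : ℕ, q.Prime ∧ q ≠ p ∧ Nat.card G = p * q ^ orderOf (q : ZMod p) ∧
      ∃ A : Subgroup G, A.Normal ∧ Nat.card A = q ^ orderOf (q : ZMod p) ∧ Cfsg.IsElementaryAbelian q A ∧
        ∀ B : Subgroup G, B.Normal → B ≤ A → B = ⊥ ∨ B = A := by
  classical
  have hp : p.Prime := Fact.out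
  haveI : Nontrivial G := by
    by_contra h
    rw [not_nontrivial_iff_subsingleton] at h
    exact hnc (isPClosed_of_isPGroup (IsPGroup.of_card (n := 0) (by rw [pow_zero]; exact Nat.card_of_subsingleton (1 : G))))
  obtain ⟨N₀, hN₀, hN₀b, hN₀t⟩ : ∃ N : Subgroup G, N.Normal ∧ N ≠ ⊥ ∧ N ≠ ⊤ := by
    by_contra hall
    push Not at hall
    exact hns { eq_bot_or_eq_top_of_normal := fun N hN => or_iff_not_imp_left.mpr (hall N hN) }
  obtain ⟨N, hNle, hN⟩ := Core.exists_isMinNormal_le (hN := hN₀) hN₀b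
  haveI := hN.normal
  have hNt : N ≠ ⊤ := fun h => hN₀t (top_le_iff.mp (h ▸ hNle))
  have hOp : ∀ M : Subgroup G, M.Normal → IsPGroup p M → M = ⊥ := fun M hM hMp => by
    by_contra hMb
    exact hnc (isPClosed_of_quotient hMp (hquo M hMb))
  have hpN : ¬ p ∣ Nat.card N := by
    intro hd
    obtain ⟨P⟩ : Nonempty (Sylow p N) := inferInstance
    have h1 := hsub N hNt P
    haveI : (P : Subgroup N).Characteristic := Sylow.characteristic_of_normal P h1
    have h2 := hOp ((P : Subgroup N).map N.subtype) (ConjAct.normal_of_characteristic_of_normal) (P.2.map _)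
    rw [map_eq_bot_iff_of_injective _ N.subtype_injective] at h2
    have h3 := P.dvd_card_of_dvd_card hd
    rw [h2, card_bot, Nat.dvd_one] at h3
    exact hp.ne_one h3
  obtain ⟨P, hPn⟩ : ∃ P : Sylow p G, ¬ (P : Subgroup G).Normal := not_forall.mp hnc
  have hNP : N ⊔ (P : Subgroup G) = ⊤ := by
    by_contra hne
    haveI : (N ⊔ (P : Subgroup G)).Normal := by
      have h1 := hquo N hN.ne_bot (P.mapSurjective (QuotientGroup.mk'_surjective N))
      rw [Sylow.coe_mapSurjective] at h1
      have h2 := h1.comap (QuotientGroup.mk' N)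
      rwa [QuotientGroup.comap_map_mk'] at h2
    exact hPn (sylow_normal_of_normal_subgroup (hsub _ hne) P le_sup_right)
  obtain ⟨k, hk⟩ := IsPGroup.iff_card.mp P.2
  have hcopN : (Nat.card N).Coprime p := Nat.coprime_comm.mp (hp.coprime_iff_not_dvd.mpr hpN)
  have hdisj : ∀ U : Subgroup G, IsPGroup p U → N ⊓ U = ⊥ := fun U hU => by
    obtain ⟨j, hj⟩ := IsPGroup.iff_card.mp hU
    exact Coprime.inf_eq_bot_of_coprime (hj ▸ hcopN.pow_right j)
  have hcardG : Nat.card G = Nat.card N * Nat.card (P : Subgroup G) := by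
    rw [← card_top (G := G), ← hNP, Coprime.card_sup_eq_mul le_normalizer_of_normal (hdisj _ P.2)]
  -- proper parts of `P` centralise `N`
  have hpart : ∀ U : Subgroup G, U ≤ (P : Subgroup G) → U ≠ P → ∀ u ∈ U, ∀ n ∈ N, Commute n u := by
    intro U hU hUne u hu n hn
    have hlt : N ⊔ U ≠ ⊤ := fun h => by
      have h1 : Nat.card G = Nat.card N * Nat.card U := by
        rw [← card_top (G := G), ← h, Coprime.card_sup_eq_mul le_normalizer_of_normal (hdisj _ (P.2.to_le hU))]
      exact hUne (eq_of_le_of_card_ge hU (Nat.eq_of_mul_eq_mul_left Nat.card_pos (hcardG ▸ h1)).le)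
    have hUS : IsPGroup p (U.subgroupOf (N ⊔ U)) := (P.2.to_le hU).comap_subtype
    obtain ⟨S, hS⟩ := hUS.exists_le_sylow
    haveI := hsub _ hlt S
    have hd : Disjoint (N.subgroupOf (N ⊔ U)) (S : Subgroup ↥(N ⊔ U)) := by
      refine disjoint_iff.mpr (Coprime.inf_eq_bot_of_coprime ?_)
      obtain ⟨j, hj⟩ := IsPGroup.iff_card.mp S.2
      rw [hj, Nat.card_congr (subgroupOfEquivOfLe le_sup_left).toEquiv]
      exact hcopN.pow_right j
    have h2 := commute_of_normal_of_disjoint _ _ inferInstance ‹_› hd (⟨n, mem_sup_left hn⟩ : ↥(N ⊔ U))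
      ⟨u, mem_sup_right hu⟩ hn (hS hu)
    exact congrArg Subtype.val h2
  have hPnc : ¬ ∀ u ∈ (P : Subgroup G), ∀ n ∈ N, Commute n u := by
    intro h
    refine hPn ?_
    rw [← normalizer_eq_top_iff, eq_top_iff, ← hNP]
    refine sup_le (fun n hn => ?_) le_normalizer
    refine centralizer_le_normalizer _ (mem_centralizer_iff.mpr fun u hu => (h u hu n hn).eq.symm)
  push Not at hPnc
  obtain ⟨x, hx, n₀, hn₀, hxn⟩ := hPnc
  have hPx : zpowers x = (P : Subgroup G) := by
    by_contra hne
    exact hxn (hpart _ (zpowers_le.mpr hx) hne x (mem_zpowers x) n₀ hn₀)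
  have hxp : x ^ p = 1 := by
    have hlt : zpowers (x ^ p) ≠ (P : Subgroup G) := by
      intro h
      have h1 : x ∈ zpowers (x ^ p) := h ▸ hx
      obtain ⟨i, hi⟩ := mem_zpowers_iff.mp h1
      obtain ⟨j, hj⟩ := IsPGroup.iff_orderOf.mp P.2 ⟨x, hx⟩
      rw [orderOf_mk] at hj
      have h2 : x ^ ((p : ℤ) * i - 1) = 1 := by
        rw [zpow_sub, zpow_mul, zpow_natCast, hi, zpow_one, mul_inv_cancel]
      have h3 : (orderOf x : ℤ) ∣ (p : ℤ) * i - 1 := orderOf_dvd_iff_zpow_eq_one.mpr h2
      rcases Nat.eq_zero_or_pos j with rfl | hj0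
      · exact hxn (by rw [orderOf_eq_one_iff.mp (hj.trans (pow_zero p))]; exact Commute.one_right n₀)
      · have h4 : (p : ℤ) ∣ (p : ℤ) * i - 1 := (Int.natCast_dvd_natCast.mpr (hj ▸ dvd_pow_self p hj0.ne')).trans h3
        have h5 : (p : ℤ) ∣ 1 := by simpa using (Dvd.intro i rfl : (p : ℤ) ∣ p * i).sub h4
        exact hp.ne_one (Nat.dvd_one.mp (Int.natCast_dvd_natCast.mp h5))
    have hle : zpowers (x ^ p) ≤ (P : Subgroup G) := zpowers_le.mpr (pow_mem hx p)
    have hn : (zpowers (x ^ p)).Normal := by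
      rw [← normalizer_eq_top_iff, eq_top_iff, ← hNP]
      refine le_trans (sup_le (fun n hn => ?_) ?_) (centralizer_le_normalizer _)
      · exact mem_centralizer_iff.mpr fun u hu => (hpart _ hle hlt u hu n hn).eq.symm
      · rw [← hPx, zpowers_le, mem_centralizer_iff]
        rintro u hu
        obtain ⟨i, rfl⟩ := mem_zpowers_iff.mp hu
        exact ((Commute.refl x).pow_left p).zpow_left i |>.eq
    have := hOp _ hn (P.2.to_le hle)
    rwa [zpowers_eq_bot] at this
  have hcardP : Nat.card (P : Subgroup G) = p := by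
    rw [← hPx, Nat.card_zpowers, orderOf_eq_prime hxp fun h => hxn (by rw [h]; exact Commute.one_right n₀)]
  -- `N` is a group of prime power order
  have hcop : (Nat.card (P : Subgroup G)).Coprime (Nat.card N) := by rw [hcardP]; exact hcopN.symm
  obtain ⟨q, hq, hNq⟩ : ∃ q, q.Prime ∧ IsPGroup q N := by
    by_contra hall
    push Not at hall
    let C : Subgroup G := N ⊓ centralizer {x}
    have hC : N ≤ C := by
      have hCN : C ≤ N := inf_le_left
      rw [← relIndex_eq_one]
      by_contra hne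
      obtain ⟨q, hq, hqd⟩ := Nat.exists_prime_and_dvd hne
      haveI := Fact.mk hq
      haveI : Group.IsNilpotent (P : Subgroup G) := P.2.isNilpotent
      obtain ⟨Q, hQ⟩ := Coprime.exists_invariant_sylow (A := (P : Subgroup G)) (K := N) le_normalizer_of_normal hcop
        (Or.inl inferInstance) q
      set Q' := (Q : Subgroup N).map N.subtype
      have hQN : Q' ≤ N := map_subtype_le _
      have hQne : Q' ≠ N := fun h => hall q hq (h ▸ Q.2.map N.subtype)
      have hlt : Q' ⊔ (P : Subgroup G) ≠ ⊤ := fun h => by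
        have h1 : Nat.card G = Nat.card Q' * Nat.card (P : Subgroup G) := by
          rw [← card_top (G := G), ← h, Coprime.card_sup_eq_mul hQ
            (le_bot_iff.mp ((inf_le_inf_right _ hQN).trans (hdisj _ P.2).le))]
        exact hQne (eq_of_le_of_card_ge hQN (Nat.eq_of_mul_eq_mul_right Nat.card_pos (hcardG ▸ h1)).le)
      haveI := hsub _ hlt (P.subtype (le_sup_right : (P : Subgroup G) ≤ Q' ⊔ (P : Subgroup G)))
      haveI : (Q'.subgroupOf (Q' ⊔ (P : Subgroup G))).Normal :=
        normal_subgroupOf_of_le_normalizer (sup_le le_normalizer hQ)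
      have hd : Disjoint (Q'.subgroupOf (Q' ⊔ (P : Subgroup G))) ((P.subtype (le_sup_right : (P : Subgroup G) ≤ Q' ⊔ (P : Subgroup G)) : Sylow p _) : Subgroup _) := by
        rw [Sylow.coe_subtype, disjoint_iff, eq_bot_iff]
        intro a ha
        exact mem_bot.mpr (Subtype.ext (mem_bot.mp ((hdisj _ P.2).le ⟨hQN ha.1, ha.2⟩)))
      have hQC : Q' ≤ C := fun a ha => ⟨hQN ha, mem_centralizer_singleton_iff.mpr (congrArg Subtype.val
        (commute_of_normal_of_disjoint _ _ ‹_› ‹_› hd (⟨a, mem_sup_left ha⟩ : ↥(Q' ⊔ (P : Subgroup G)))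
          ⟨x, mem_sup_right hx⟩ ha hx))⟩
      have h1 := (C.subgroupOf N).card_mul_index
      rw [Nat.card_congr (subgroupOfEquivOfLe hCN).toEquiv] at h1
      have h5 : q ^ ((Nat.card N).factorization q + 1) ∣ Nat.card N := by
        rw [pow_succ]
        conv_rhs => rw [← h1]
        refine Nat.mul_dvd_mul ?_ hqd
        have h6 := card_dvd_of_le hQC
        rwa [card_map_of_injective N.subtype_injective, Q.card_eq_multiplicity] at h6
      exact Nat.pow_succ_factorization_not_dvd Nat.card_pos.ne' hq h5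
    exact hxn ((mem_centralizer_singleton_iff.mp (hC hn₀).2))
  haveI := Fact.mk hq
  haveI : Group.IsNilpotent N := hNq.isNilpotent
  haveI := hN.isMulCommutative
  obtain ⟨ℓ, hℓ, hexp⟩ := hN.exists_prime_pow_eq_one
  obtain ⟨y, hy, hy1⟩ := (bot_or_exists_ne_one N).resolve_left hN.ne_bot
  obtain ⟨j, hj⟩ := IsPGroup.iff_orderOf.mp hNq ⟨y, hy⟩
  rw [orderOf_mk] at hj
  haveI := Fact.mk hℓ
  have hlq : ℓ = q := by
    have h1 : orderOf y = ℓ := orderOf_eq_prime (hexp y hy) hy1
    exact (Nat.prime_dvd_prime_iff_eq hℓ hq).mp (hℓ.dvd_of_dvd_pow (dvd_of_eq (h1.symm.trans hj)))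
  have hqp : q ≠ p := fun h => hpN (h ▸ hlq ▸ (orderOf_eq_prime (hexp y hy) hy1).symm ▸ N.orderOf_dvd_natCard hy)
  have hidx : N.index = p := Nat.eq_of_mul_eq_mul_left (Nat.card_pos (α := N))
    (by rw [card_mul_index, hcardG, hcardP])
  have hna : ¬ IsMulCommutative G := fun h => hPn ⟨fun a ha g => by
    rwa [h.is_comm.comm g a, mul_inv_cancel_right]⟩
  have hNE : Cfsg.IsElementaryAbelian q N := ⟨inferInstance, fun a ha => hlq ▸ hexp a ha⟩
  obtain ⟨hcard, -, -, -⟩ := irreducible_extension hq hqp hna N hNE hidx hN.eq_of_le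
  exact ⟨q, hq, hqp, by rw [hcardG, hcardP, hcard, mul_comm], N, inferInstance, hcard, hNE, hN.eq_of_le⟩

end Cfsg.Agent.PClosedMin
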